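import Cfsg.Agent.Lib.SpFourRes.Star.Basic
import Cfsg.Agent.Lib.Orth.Spinor

/-!
Short involutions are absent from residual subgroups of `Sp₄(F)`, `F` of characteristic two.

* `exists_tvec_star` : the image of a short involution under `star` is a transvection
* `irreducible_image` : the image of a residual group is irreducible
* `Short.false_of_trichotomy` : a short involution is impossible, given the groups generated by transvections
-/

set_option autoImplicit false

namespace Cfsg.Agent.SpFourRes.Star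

open Matrix

variable {F : Type*} [Field F] [CharP F 2]

theorem add_self_zero (v : Vec F) : v + v = 0 := funext fun i => CharTwo.add_self_eq_zero (v i)

theorem sf_add_left (a b c : Vec F) : sf (a + b) c = sf a c + sf b c := isSymp.bilinear.add_left a b c

theorem sf_add_right (a b c : Vec F) : sf c (a + b) = sf c a + sf c b := isSymp.bilinear.add_right c a b

theorem sf_smul_left (t : F) (a b : Vec F) : sf (t • a) b = t * sf a b := isSymp.bilinear.smul_left t a b

theorem sf_smul_right (t : F) (a b : Vec F) : sf a (t • b) = t * sf a b := isSymp.bilinear.smul_right t a b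

theorem sf_self (a : Vec F) : sf a a = 0 := isSymp.alternating a

theorem sf_zero_left (a : Vec F) : sf 0 a = 0 := by simpa using sf_smul_left 0 0 a

theorem sf_single_a (y : Vec F) : sf y (Pi.single ia 1) = y id' := by rw [sf_eq]; simp

/-- A frame gives a member of the symplectic group. -/
theorem exists_frame {w0 w1 b a : Vec F} (h01 : sf w0 w1 = 0) (h0a : sf w0 a = 0) (h1a : sf w1 a = 1)
    (h0b : sf w0 b = 1) (h1b : sf w1 b = 0) (hab : sf a b = 0) :
    ∃ B : ↥(Cfsg.spGL 2 F), colv (B : GL I4 F).1 ia = w0 ∧ colv (B : GL I4 F).1 ib = w1 ∧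
      colv (B : GL I4 F).1 ic = a ∧ colv (B : GL I4 F).1 id' = b := by
  let M : Matrix I4 I4 F := Matrix.of fun i r => (Sum.elim ![w0, w1] ![b, a]) r i
  have hM : Symp M := by
    ext r s
    rw [mul_J_mul_apply]
    have s10 := (sf_symm w1 w0).trans h01
    have sa0 := (sf_symm a w0).trans h0a
    have sa1 := (sf_symm a w1).trans h1a
    have sb0 := (sf_symm b w0).trans h0b
    have sb1 := (sf_symm b w1).trans h1b
    have sba := (sf_symm b a).trans hab
    have ca : colv M ia = w0 := rfl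
    have cb : colv M ib = w1 := rfl
    have cc : colv M ic = a := rfl
    have cd : colv M id' = b := rfl
    revert s; revert r
    simp only [forall_I4, ca, cb, cc, cd, sf_self, h01, h0a, h1a, h0b, h1b, hab, s10, sa0, sa1, sb0,
      sb1, sba]
    simp [Matrix.J, CharTwo.neg_eq]
  let g : GL I4 F := Matrix.GeneralLinearGroup.mkOfDetNeZero M (by rw [hM.det_eq_one]; exact one_ne_zero)
  exact ⟨⟨g, mem_spGL.2 hM⟩, rfl, rfl, rfl, rfl⟩

/-- A dual vector. -/
theorem exists_dual {w0 w1 : Vec F} (h0 : w0 ≠ 0) (h : ∀ c : F, w1 ≠ c • w0) :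
    ∃ a, sf w0 a = 0 ∧ sf w1 a = 1 := by
  obtain ⟨-, y, hy⟩ := isSymp.nondegenerate w0 h0
  set p := (sf w0 y)⁻¹ • y with hp
  have hp1 : sf w0 p = 1 := by rw [hp, sf_smul_right, inv_mul_cancel₀ hy]
  by_contra hne
  have key : ∀ x, sf w0 x = 0 → sf w1 x = 0 := fun x hx => by
    by_contra h1
    exact hne ⟨(sf w1 x)⁻¹ • x, by rw [sf_smul_right, hx, mul_zero],
      by rw [sf_smul_right, inv_mul_cancel₀ h1]⟩
  apply h (sf w1 p)
  by_contra h2
  have h3 : w1 + sf w1 p • w0 ≠ 0 := fun e => h2 (by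
    have := congrArg (· + sf w1 p • w0) e
    simpa [add_assoc, add_self_zero] using this)
  obtain ⟨-, x, hx⟩ := isSymp.nondegenerate _ h3
  apply hx
  have := key (x + sf w0 x • p) (by rw [sf_add_right, sf_smul_right, hp1, mul_one, CharTwo.add_self_eq_zero])
  rw [sf_add_right, sf_smul_right] at this
  show sf (w1 + sf w1 p • w0) x = 0
  rw [sf_add_left, sf_smul_left]
  linear_combination this

/-- `Sp₄` is transitive on the non-zero vectors. -/
theorem exists_first {v : Vec F} (hv : v ≠ 0) :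
    ∃ B : ↥(Cfsg.spGL 2 F), colv (B : GL I4 F).1 ia = v := by
  obtain ⟨-, y, hy⟩ := isSymp.nondegenerate v hv
  obtain ⟨b, hb1⟩ : ∃ b, sf v b = 1 := ⟨(sf v y)⁻¹ • y, by rw [sf_smul_right, inv_mul_cancel₀ hy]⟩
  obtain ⟨x, hx⟩ : ∃ x : Vec F, x ∉ Submodule.span F {v, b} := by
    by_contra! h
    have e : Submodule.span F ({v, b} : Set (Vec F)) = ⊤ := Submodule.eq_top_iff'.2 h
    have h1 := finrank_range_le_card (R := F) ![v, b]
    have h2 : Set.range ![v, b] = {v, b} := by simp [Matrix.range_cons, Set.pair_comm]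
    rw [Set.finrank, h2, e, finrank_top] at h1
    simp at h1
  obtain ⟨w1, hw1⟩ : ∃ w, w = x + sf v x • b + sf b x • v := ⟨_, rfl⟩
  have h01 : sf v w1 = 0 := by
    rw [hw1, sf_add_right, sf_add_right, sf_smul_right, sf_smul_right, hb1, sf_self, mul_one, mul_zero,
      add_zero, CharTwo.add_self_eq_zero]
  have h1b : sf w1 b = 0 := by
    rw [hw1, sf_add_left, sf_add_left, sf_smul_left, sf_smul_left, hb1, sf_self, mul_one, mul_zero,
      add_zero, sf_symm x b, CharTwo.add_self_eq_zero]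
  have hne : ∀ c : F, w1 ≠ c • v := fun c e => hx (by
    refine Submodule.mem_span_pair.2 ⟨c + sf b x, sf v x, ?_⟩
    rw [add_smul, ← e, hw1]
    funext i
    simp only [Pi.add_apply, Pi.smul_apply, smul_eq_mul]
    linear_combination (sf v x * b i + sf b x * v i) * CharTwo.two_eq_zero (R := F))
  obtain ⟨a, h0a, h1a⟩ := exists_dual hv hne
  obtain ⟨B, hB, -⟩ := exists_frame (b := b) (a := a + sf a b • v) h01
    (by rw [sf_add_right, sf_smul_right, h0a, sf_self, mul_zero, add_zero])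
    (by rw [sf_add_right, sf_smul_right, h1a, sf_symm w1 v, h01, mul_zero, add_zero]) hb1 h1b
    (by rw [sf_add_left, sf_smul_left, hb1, mul_one, CharTwo.add_self_eq_zero])
  exact ⟨B, hB⟩

theorem mulVec_single_col (M : Matrix I4 I4 F) (r : I4) : M *ᵥ Pi.single r 1 = colv M r := by
  funext i; simp [colv]

/-- The model of a short involution. -/
def shortMat : Matrix I4 I4 F := 1 + Matrix.single ia ic 1 + Matrix.single ib id' 1

theorem symp_shortMat : Symp (shortMat (F := F)) := by
  ext r s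
  rw [mul_J_mul_apply, sf_eq]
  revert s; revert r
  simp [forall_I4, shortMat, colv, Matrix.J, Matrix.one_apply, Matrix.single, CharTwo.neg_eq,
    CharTwo.sub_eq_add, CharTwo.add_self_eq_zero]

theorem star_shortMat : star (shortMat (F := F)) = 1 + Matrix.single ia id' 1 := by
  ext p r
  revert r; revert p
  simp [forall_I4, shortMat, star, mn, colv, Matrix.one_apply, Matrix.single]

/-- A short involution is conjugate to the model. -/
theorem exists_conj_shortMat {z : ↥(Cfsg.spGL 2 F)} (hz2 : z * z = 1) (hz1 : z ≠ 1)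
    (hs : ∀ x : Vec F, sf ((z : GL I4 F).1 *ᵥ x) x = 0) :
    ∃ B : ↥(Cfsg.spGL 2 F), (z : GL I4 F).1 * (B : GL I4 F).1 = (B : GL I4 F).1 * shortMat := by
  set Z := (z : GL I4 F).1 with hZdef
  have hzi : ∀ x y : Vec F, sf (Z *ᵥ x) (Z *ᵥ y) = sf x y := z.2
  have hzz : ∀ x : Vec F, Z *ᵥ (Z *ᵥ x) = x := fun x => by
    rw [hZdef, Matrix.mulVec_mulVec, ← Units.val_mul, ← Subgroup.coe_mul, hz2]
    simp
  obtain ⟨n, hn⟩ : ∃ n : Vec F → Vec F, ∀ x, n x = Z *ᵥ x + x := ⟨_, fun _ => rfl⟩
  have hzn : ∀ x, Z *ᵥ x = x + n x := fun x => by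
    rw [hn x]
    rw [add_comm (Z *ᵥ x) x, ← add_assoc, add_self_zero, zero_add]
  have halt : ∀ x, sf (n x) x = 0 := fun x => by rw [hn, sf_add_left, hs, sf_self, add_zero]
  have nadd : ∀ x y, n (x + y) = n x + n y := fun x y => by
    rw [hn, hn, hn, Matrix.mulVec_add]; abel
  have nsmul : ∀ (c : F) x, n (c • x) = c • n x := fun c x => by
    rw [hn, hn, Matrix.mulVec_smul, smul_add]
  have hsym : ∀ x y, sf (n x) y = sf (n y) x := fun x y => by
    have h := halt (x + y)
    rw [nadd, sf_add_left, sf_add_right, sf_add_right, halt, halt] at h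
    linear_combination h - sf (n y) x * CharTwo.two_eq_zero (R := F)
  have hnn : ∀ x y, sf (n x) (n y) = 0 := fun x y => by
    have h := hzi x y
    rw [hzn x, hzn y, sf_add_left, sf_add_right, sf_add_right, sf_symm x (n y), ← hsym x y] at h
    linear_combination h - sf (n x) y * CharTwo.two_eq_zero (R := F)
  obtain ⟨a0, ha0⟩ : ∃ x, n x ≠ 0 := by
    by_contra! h
    apply hz1
    refine Subtype.ext (Units.ext (Matrix.ext_of_mulVec_single fun i => ?_))
    show Z *ᵥ _ = _
    rw [hzn, h, add_zero]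
    funext j
    simp [Matrix.one_apply, Pi.single_apply]
  obtain ⟨-, y, hy⟩ := isSymp.nondegenerate _ ha0
  obtain ⟨b0, hb1⟩ : ∃ b, sf (n a0) b = 1 :=
    ⟨(sf (n a0) y)⁻¹ • y, by rw [sf_smul_right, inv_mul_cancel₀ hy]⟩
  obtain ⟨w1, hw1⟩ : ∃ w, w = n b0 := ⟨_, rfl⟩
  obtain ⟨b, hb⟩ : ∃ b, b = b0 + sf a0 b0 • w1 := ⟨_, rfl⟩
  have hnb : n b = w1 := by
    have : n w1 = 0 := by
      by_contra h
      obtain ⟨-, y, hy⟩ := isSymp.nondegenerate _ h
      exact hy ((hsym w1 y).trans (by rw [hw1, hnn]))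
    rw [hb, nadd, nsmul, this, smul_zero, add_zero, hw1]
  have h1a : sf w1 a0 = 1 := by rw [hw1, hsym, hb1]
  obtain ⟨B, ca, cb, cc, cd⟩ := exists_frame (w0 := n a0) (w1 := w1) (a := a0) (b := b) (by rw [hw1]; exact hnn a0 b0)
    (halt a0) h1a (by rw [hb, sf_add_right, sf_smul_right, hb1, hw1, hnn, mul_zero, add_zero])
    (by rw [← hnb]; exact halt b)
    (by rw [hb, sf_add_right, sf_smul_right, sf_symm a0 w1, h1a, mul_one, CharTwo.add_self_eq_zero])
  refine ⟨B, Matrix.ext_of_mulVec_single fun r => ?_⟩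
  rw [← Matrix.mulVec_mulVec, ← Matrix.mulVec_mulVec, mulVec_single_col, mulVec_single_col, hzn]
  have hw0 : n (n a0) = 0 := by
    by_contra h
    obtain ⟨-, y, hy⟩ := isSymp.nondegenerate _ h
    exact hy ((hsym (n a0) y).trans (hnn _ _))
  have hw1' : n w1 = 0 := by
    by_contra h
    obtain ⟨-, y, hy⟩ := isSymp.nondegenerate _ h
    exact hy ((hsym w1 y).trans (by rw [hw1, hnn]))
  have sa : colv (shortMat (F := F)) ia = Pi.single ia 1 := by
    funext i; revert i; simp [forall_I4, shortMat, colv, Matrix.one_apply, Matrix.single]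
  have sb : colv (shortMat (F := F)) ib = Pi.single ib 1 := by
    funext i; revert i; simp [forall_I4, shortMat, colv, Matrix.one_apply, Matrix.single]
  have sc : colv (shortMat (F := F)) ic = Pi.single ic 1 + Pi.single ia 1 := by
    funext i; revert i; simp [forall_I4, shortMat, colv, Matrix.one_apply, Matrix.single]
  have sd : colv (shortMat (F := F)) id' = Pi.single id' 1 + Pi.single ib 1 := by
    funext i; revert i; simp [forall_I4, shortMat, colv, Matrix.one_apply, Matrix.single]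
  revert r
  simp only [forall_I4, sa, sb, sc, sd, Matrix.mulVec_add, mulVec_single_col, ca, cb, cc, cd, hw0,
    hw1', hnb, add_zero, and_self]

/-- The image of a short involution is a transvection. -/
theorem exists_tvec_star {z : ↥(Cfsg.spGL 2 F)} (hz2 : z * z = 1) (hz1 : z ≠ 1)
    (hs : ∀ x : Vec F, sf ((z : GL I4 F).1 *ᵥ x) x = 0) :
    ∃ u : Vec F, IsTvec (starHom z : GL I4 F) u := by
  obtain ⟨B, hconj⟩ := exists_conj_shortMat hz2 hz1 hs
  set Z := (z : GL I4 F).1 with hZdef
  set M := (B : GL I4 F).1 with hMdef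
  have hMs : Symp M := mem_spGL.1 B.2
  have hst : star Z * star M = star M * star (shortMat (F := F)) := by
    rw [← star_mul (mem_spGL.1 z.2) hMs, ← star_mul hMs symp_shortMat, hconj]
  have hSi : ∀ x y : Vec F, sf (star M *ᵥ x) (star M *ᵥ y) = sf x y := (starHom B).2
  refine ⟨colv (star M) ia, fun x => ?_⟩
  obtain ⟨y, rfl⟩ : ∃ y, star M *ᵥ y = x :=
    ⟨((starHom B : GL I4 F)⁻¹).1 *ᵥ x, by
      rw [show star M = (starHom B : GL I4 F).1 from rfl, Matrix.mulVec_mulVec, ← Units.val_mul]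
      simp⟩
  show star Z *ᵥ _ = _
  rw [Matrix.mulVec_mulVec, hst, ← Matrix.mulVec_mulVec, star_shortMat, Matrix.add_mulVec,
    Matrix.one_mulVec, Matrix.mulVec_add, Matrix.single_mulVec, ← mulVec_single_col, hSi, sf_single_a]
  congr 1
  rw [← Matrix.mulVec_smul]
  congr 1
  funext i; revert i
  simp [Function.update]

/-- The orthogonal subspace. -/
def orth (W : Submodule F (Vec F)) : Submodule F (Vec F) where
  carrier := {x | ∀ w ∈ W, sf x w = 0}
  add_mem' hx hy w hw := by rw [sf_add_left, hx w hw, hy w hw, add_zero]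
  zero_mem' w _ := sf_zero_left w
  smul_mem' c x hx w hw := by rw [sf_smul_left, hx w hw, mul_zero]

theorem orth_ne_bot {W : Submodule F (Vec F)} (hW : W ≠ ⊤) : orth W ≠ ⊥ := by
  intro h
  let ψ : Vec F →ₗ[F] Module.Dual F W :=
    { toFun := fun x =>
        { toFun := fun w => sf x w.1
          map_add' := fun a b => sf_add_right _ _ _
          map_smul' := fun c a => sf_smul_right _ _ _ }
      map_add' := fun a b => LinearMap.ext fun w => sf_add_left _ _ _
      map_smul' := fun c a => LinearMap.ext fun w => sf_smul_left _ _ _ }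
  have hinj : Function.Injective ψ := by
    rw [injective_iff_map_eq_zero]
    intro x hx
    have : x ∈ orth W := fun w hw => LinearMap.congr_fun hx ⟨w, hw⟩
    rwa [h, Submodule.mem_bot] at this
  have h1 := LinearMap.finrank_le_finrank_of_injective hinj
  rw [Subspace.dual_finrank_eq] at h1
  exact hW (Submodule.eq_top_of_finrank_eq (le_antisymm (Submodule.finrank_le W) h1))

/-- A subgroup of a simple group stable under conjugation with a non-trivial element is everything. -/
theorem le_of_simple {Γ : Type*} [Group Γ] {G H : Subgroup Γ} [IsSimpleGroup ↥G]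
    (hconj : ∀ g ∈ G, ∀ h ∈ G, h ∈ H → g * h * g⁻¹ ∈ H) {t : Γ} (ht : t ∈ G) (htH : t ∈ H) (ht1 : t ≠ 1) :
    G ≤ H := by
  have hn : (H.subgroupOf G).Normal :=
    ⟨fun h hh g => hconj g.1 g.2 h.1 h.2 hh⟩
  rcases hn.eq_bot_or_eq_top with h | h
  · have hm : (⟨t, ht⟩ : ↥G) ∈ H.subgroupOf G := htH
    rw [h, Subgroup.mem_bot] at hm
    exact absurd (congrArg Subtype.val hm) ht1
  · exact Subgroup.subgroupOf_eq_top.1 h

/-- The pointwise fixer of a subspace. -/
def fixer (U : Submodule F (Vec F)) : Subgroup (GL I4 F) where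
  carrier := {g | ∀ x ∈ U, g.1 *ᵥ x = x}
  one_mem' x _ := by simp
  mul_mem' {g h} hg hh x hx := by rw [Units.val_mul, ← Matrix.mulVec_mulVec, hh x hx, hg x hx]
  inv_mem' {g} hg x hx := by
    have := congrArg (fun v => (g⁻¹ : GL I4 F).1 *ᵥ v) (hg x hx)
    rw [Matrix.mulVec_mulVec, ← Units.val_mul, inv_mul_cancel] at this
    simpa using this.symm

/-- The image of a residual group. -/
def image {P : Subgroup (GL I4 F)} (C : Core P) : Subgroup (GL I4 F) :=
  (((Cfsg.spGL 2 F).subtype.comp starHom).comp (Subgroup.inclusion C.le_sp)).range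

section

variable {P : Subgroup (GL I4 F)} (C : Core P)

theorem mem_image {g : GL I4 F} :
    g ∈ image C ↔ ∃ h : ↥(Cfsg.spGL 2 F), (h : GL I4 F) ∈ P ∧ (starHom h : GL I4 F) = g := by
  constructor
  · rintro ⟨h, rfl⟩; exact ⟨_, h.2, rfl⟩
  · rintro ⟨h, hh, rfl⟩; exact ⟨⟨h.1, hh⟩, rfl⟩

theorem image_le : image C ≤ Cfsg.spGL 2 F := by
  intro g hg
  obtain ⟨h, -, rfl⟩ := (mem_image C).1 hg
  exact (starHom h).2

noncomputable def imageEquiv : ↥P ≃* ↥(image C) :=
  MonoidHom.ofInjective (f := ((Cfsg.spGL 2 F).subtype.comp starHom).comp (Subgroup.inclusion C.le_sp))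
    ((Subtype.val_injective.comp starHom_injective).comp (Subgroup.inclusion_injective C.le_sp))

theorem image_simple : IsSimpleGroup ↥(image C) := by
  have := C.simple
  have := (imageEquiv C).symm.toEquiv.nontrivial
  exact IsSimpleGroup.isSimpleGroup_of_surjective (imageEquiv C).toMonoidHom (imageEquiv C).surjective

/-- An invariant line of the image gives an invariant plane of the group. -/
theorem no_line [Finite F] {v : Vec F} (hv : v ≠ 0) :
    ∃ g ∈ image C, ∀ c : F, g.1 *ᵥ v ≠ c • v := by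
  by_contra! hinv
  obtain ⟨B, hB⟩ := exists_first hv
  obtain ⟨B0, rfl⟩ := starHom_bijective.2 B
  set W : Submodule F (Vec F) :=
    Submodule.span F {colv (B0 : GL I4 F).1 ia, colv (B0 : GL I4 F).1 ib} with hW
  have hWinv : ∀ s ∈ Cfsg.Geo.matrixSet P, W.map (Matrix.toLin' s) ≤ W := by
    rintro _ ⟨h, hh, rfl⟩
    set k : ↥(Cfsg.spGL 2 F) := B0⁻¹ * ⟨h, C.le_sp hh⟩ * B0 with hk
    obtain ⟨c, hc⟩ := hinv _ ((mem_image C).2 ⟨⟨h, C.le_sp hh⟩, hh, rfl⟩)
    have hcol : colv (star (k : GL I4 F).1) ia = c • Pi.single ia 1 := by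
      rw [← mulVec_single_col, ← starHom_val, hk, map_mul, map_mul, map_inv, Subgroup.coe_mul,
        Subgroup.coe_mul, Subgroup.coe_inv, Units.val_mul, Units.val_mul, ← Matrix.mulVec_mulVec,
        ← Matrix.mulVec_mulVec, mulVec_single_col, hB, hc, Matrix.mulVec_smul, ← hB, ← mulVec_single_col,
        Matrix.mulVec_mulVec, ← Units.val_mul, inv_mul_cancel, Units.val_one, Matrix.one_mulVec]
    obtain ⟨e1, e2, e3, e4⟩ := lag_of_line (mem_spGL.1 k.2)
      (by simpa [colv] using congrFun hcol ib) (by simpa [colv] using congrFun hcol ic)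
      (by simpa [colv] using congrFun hcol id')
    have hhk : h * (B0 : GL I4 F) = (B0 : GL I4 F) * (k : GL I4 F) := by
      simp [hk, mul_assoc]
    have hmem : ∀ r, r = ia ∨ r = ib → h.1 *ᵥ colv (B0 : GL I4 F).1 r ∈ W := by
      intro r hr
      rw [← mulVec_single_col, Matrix.mulVec_mulVec, ← Units.val_mul, hhk, Units.val_mul,
        ← Matrix.mulVec_mulVec, mulVec_single_col]
      have : colv (k : GL I4 F).1 r =
          (k : GL I4 F).1 ia r • Pi.single ia 1 + (k : GL I4 F).1 ib r • Pi.single ib 1 := by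
        funext i; revert i
        rcases hr with rfl | rfl <;> simp [colv, e1, e2, e3, e4]
      rw [this, Matrix.mulVec_add, Matrix.mulVec_smul, Matrix.mulVec_smul, mulVec_single_col,
        mulVec_single_col]
      exact add_mem (Submodule.smul_mem _ _ (Submodule.subset_span (Or.inl rfl)))
        (Submodule.smul_mem _ _ (Submodule.subset_span (Or.inr rfl)))
    rw [hW, Submodule.map_span_le]
    intro x hx
    rw [Matrix.toLin'_apply]
    rcases hx with rfl | rfl
    · exact hmem _ (Or.inl rfl)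
    · exact hmem _ (Or.inr rfl)
  rcases C.abs_irr.1 W hWinv with h | h
  · have hm : colv (B0 : GL I4 F).1 ia ∈ W := Submodule.subset_span (Or.inl rfl)
    rw [h, Submodule.mem_bot] at hm
    have := (mem_spGL.1 B0.2).det_eq_one
    rw [Matrix.det_eq_zero_of_column_eq_zero ia (fun i => congrFun hm i)] at this
    exact zero_ne_one this
  · have h1 := finrank_range_le_card (R := F) ![colv (B0 : GL I4 F).1 ia, colv (B0 : GL I4 F).1 ib]
    have h2 : Set.range ![colv (B0 : GL I4 F).1 ia, colv (B0 : GL I4 F).1 ib] =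
        {colv (B0 : GL I4 F).1 ia, colv (B0 : GL I4 F).1 ib} := by
      simp [Matrix.range_cons, Set.pair_comm]
    rw [Set.finrank, h2, ← hW, h, finrank_top] at h1
    simp at h1

/-- The image with a transvection is irreducible. -/
theorem irreducible_image [Finite F] {t : GL I4 F} (ht : t ∈ image C) (ht1 : t ≠ 1) {u : Vec F}
    (htu : IsTvec t u) : Cfsg.Geo.ActsIrreducibly (Cfsg.Geo.matrixSet (image C)) := by
  intro W hW
  have := image_simple C
  have hinv : ∀ g ∈ image C, ∀ x ∈ W, g.1 *ᵥ x ∈ W := fun g hg x hx => by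
    have := hW g.1 ⟨g, hg, rfl⟩ ⟨x, hx, rfl⟩
    rwa [Matrix.toLin'_apply] at this
  by_contra hne
  rw [not_or] at hne
  obtain ⟨U, hU0, hUinv, hUfix⟩ : ∃ U : Submodule F (Vec F), U ≠ ⊥ ∧
      (∀ g ∈ image C, ∀ x ∈ U, g.1 *ᵥ x ∈ U) ∧ t ∈ fixer U := by
    by_cases h : ∀ x ∈ W, sf x u = 0
    · exact ⟨W, hne.1, hinv, fun x hx => by rw [htu x, h x hx, zero_smul, add_zero]⟩
    · push Not at h
      obtain ⟨x, hx, hxu⟩ := h
      have hu : u ∈ W := by
        have h1 := sub_mem (hinv t ht x hx) hx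
        rw [htu x, add_sub_cancel_left] at h1
        exact (Submodule.smul_mem_iff W hxu).1 h1
      refine ⟨orth W, orth_ne_bot hne.2, fun g hg y hy w hw => ?_, fun y hy => ?_⟩
      · obtain ⟨w', hw', rfl⟩ : ∃ w' ∈ W, g.1 *ᵥ w' = w :=
          ⟨(g⁻¹ : GL I4 F).1 *ᵥ w, hinv _ (inv_mem hg) w hw, by
            rw [Matrix.mulVec_mulVec, ← Units.val_mul, mul_inv_cancel, Units.val_one, Matrix.one_mulVec]⟩
        exact ((image_le C hg) y w').trans (hy w' hw')
      · rw [htu y, hy u hu, zero_smul, add_zero]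
  have hall : image C ≤ fixer U := le_of_simple (fun g hg h _ hh x hx => by
    rw [Units.val_mul, Units.val_mul, ← Matrix.mulVec_mulVec, ← Matrix.mulVec_mulVec,
      hh _ (hUinv _ (inv_mem hg) x hx), Matrix.mulVec_mulVec, ← Units.val_mul, mul_inv_cancel,
      Units.val_one, Matrix.one_mulVec]) ht hUfix ht1
  obtain ⟨v, hv, hv0⟩ := Submodule.exists_mem_ne_zero_of_ne_bot hU0
  obtain ⟨g, hg, hgv⟩ := no_line C hv0
  exact hgv 1 (by rw [one_smul]; exact hall hg v hv)

/-- The image is generated by its transvections. -/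
theorem gen_image {t : GL I4 F} (ht : t ∈ image C) (ht1 : t ≠ 1) {u : Vec F} (htu : IsTvec t u) :
    image C = Subgroup.closure {g | g ∈ image C ∧ ∃ u, IsTvec g u} := by
  have := image_simple C
  refine le_antisymm (le_of_simple ?_ ht (Subgroup.subset_closure ⟨ht, u, htu⟩) ht1)
    ((Subgroup.closure_le _).2 fun g hg => hg.1)
  intro g hg h hm hh
  clear hm
  induction hh using Subgroup.closure_induction with
  | mem s hs =>
    obtain ⟨hs, w, hw⟩ := hs
    refine Subgroup.subset_closure ⟨mul_mem (mul_mem hg hs) (inv_mem hg), g.1 *ᵥ w, fun x => ?_⟩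
    have hi : ∀ a b : Vec F, sf (g.1 *ᵥ a) (g.1 *ᵥ b) = sf a b := image_le C hg
    have hx : g.1 *ᵥ ((g⁻¹ : GL I4 F).1 *ᵥ x) = x := by
      rw [Matrix.mulVec_mulVec, ← Units.val_mul, mul_inv_cancel, Units.val_one, Matrix.one_mulVec]
    rw [Units.val_mul, Units.val_mul, ← Matrix.mulVec_mulVec, ← Matrix.mulVec_mulVec, hw,
      Matrix.mulVec_add, Matrix.mulVec_smul, hx]
    congr 2
    conv_rhs => rw [← hx]
    rw [hi]
  | one => simp
  | mul a b _ _ ha hb => rw [show g * (a * b) * g⁻¹ = (g * a * g⁻¹) * (g * b * g⁻¹) by group]; exact mul_mem ha hb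
  | inv a _ ha => rw [show g * a⁻¹ * g⁻¹ = (g * a * g⁻¹)⁻¹ by group]; exact inv_mem ha

/-- No quadratic map takes the value one on all transvection vectors of the image. -/
theorem no_quad_image [Fintype F] (hq : 4 ≤ Fintype.card F) {t : GL I4 F} (ht : t ∈ image C) (ht1 : t ≠ 1)
    {u : Vec F} (htu : IsTvec t u) {Q : Vec F → F} (hQ : IsQuad Q)
    (hQ1 : ∀ v ∈ tvecs (image C), Q v = 1) : False := by
  classical
  have hu : u ≠ 0 := fun h => ht1 (Units.ext (Matrix.ext_of_mulVec_single fun i => by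
    rw [htu, h, smul_zero, add_zero]
    funext j
    simp [Matrix.one_apply, Pi.single_apply]))
  have hQu : Q u = 1 := hQ1 u ⟨hu, t, ht, htu⟩
  have hpol : ∀ x y : Vec F, QuadraticMap.polar Q x y = sf x y := fun x y => by
    rw [QuadraticMap.polar, hQ.add]; ring
  let q : QuadraticForm F (Vec F) := QuadraticMap.ofPolar Q
    (fun c x => by rw [hQ.smul, smul_eq_mul, pow_two])
    (fun x x' y => by rw [hpol, hpol, hpol, sf_add_left])
    (fun c x y => by rw [hpol, hpol, sf_smul_left, smul_eq_mul])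
  have hqpol : ∀ x y : Vec F, QuadraticMap.polar (⇑q) x y = sf x y := hpol
  have hnd : q.polarBilin.Nondegenerate := by
    constructor <;> intro x hx <;> by_contra h
    · obtain ⟨-, y, hy⟩ := isSymp.nondegenerate x h
      exact hy ((hqpol x y).symm.trans (hx y))
    · obtain ⟨-, y, hy⟩ := isSymp.nondegenerate x h
      exact hy (((sf_symm x y).trans (hqpol y x).symm).trans (hx y))
  have hG : Orth.Good q := Orth.Good.of_card hnd (Or.inl (by omega))
  have hle : image C ≤ Cfsg.isometryGroup F ⇑q := by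
    rw [gen_image C ht ht1 htu, Subgroup.closure_le]
    rintro g ⟨hg, w, hw⟩ x -
    show Q (g.1 *ᵥ x) = Q x
    rcases eq_or_ne w 0 with rfl | hw0
    · rw [hw, smul_zero, add_zero]
    · rw [hw, hQ.add, hQ.smul, hQ1 w ⟨hw0, g, hg, hw⟩, sf_smul_right]
      linear_combination sf x w ^ 2 * CharTwo.two_eq_zero (R := F)
  let ψ : ↥(image C) →* ℤˣ := (Orth.dickHom hG).toHomUnits.comp (Subgroup.inclusion hle)
  have htr : Subgroup.inclusion hle ⟨t, ht⟩ = Orth.refl q u := by
    refine Orth.ext_ap fun x => ?_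
    rw [Orth.refl_ap]
    show t.1 *ᵥ x = _
    rw [htu, hqpol, show q u = 1 from hQu]
    funext i
    simp [CharTwo.sub_eq_add, sf_symm u x]
  have hψ : ψ ⟨t, ht⟩ = -1 := by
    ext
    simp only [ψ, MonoidHom.comp_apply, MonoidHom.coe_toHomUnits, htr, Orth.dickHom_apply,
      Orth.dick_refl hnd (show q u ≠ 0 by rw [show q u = 1 from hQu]; exact one_ne_zero)]
    rfl
  have := image_simple C
  rcases (MonoidHom.normal_ker ψ).eq_bot_or_eq_top with h | h
  · obtain ⟨a, b, hab⟩ := C.nonabelian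
    apply hab
    apply (imageEquiv C).injective
    apply (ψ.ker_eq_bot_iff).1 h
    simp only [map_mul]
    exact mul_comm _ _
  · have h1 : (⟨t, ht⟩ : ↥(image C)) ∈ ψ.ker := h ▸ Subgroup.mem_top _
    rw [MonoidHom.mem_ker, hψ] at h1
    exact absurd h1 (by decide)

end

end Cfsg.Agent.SpFourRes.Star

namespace Cfsg.Agent.SpFourRes.Short

open Matrix Cfsg.Agent.SpFourRes.Star

variable {F : Type*} [Field F] [CharP F 2]

/-- No short involutions, given the classification of irreducible groups generated by transvections. -/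
theorem false_of_trichotomy [Fintype F] (hq : 4 ≤ Fintype.card F)
    (hA : ∀ G : Subgroup (GL (Fin 2 ⊕ Fin 2) F), G ≤ Cfsg.spGL 2 F →
      Cfsg.Geo.ActsIrreducibly (Cfsg.Geo.matrixSet G) →
      G = Subgroup.closure {g | g ∈ G ∧ ∃ u, IsTvec g u} →
      G = Cfsg.spGL 2 F ∨ (∃ Q, IsQuad Q ∧ ∀ u ∈ tvecs G, Q u = 1) ∨
        ∃ K : Subfield F, K ≠ ⊤ ∧ ∃ B ∈ Cfsg.spGL 2 F, ∀ g ∈ G, ∀ i j, (B * g * B⁻¹).1 i j ∈ K)
    {P : Subgroup (GL (Fin 2 ⊕ Fin 2) F)} (C : Core P)
    (h : ∃ z ∈ P, z * z = 1 ∧ z ≠ 1 ∧ ∀ x : Vec F, sf (z.1 *ᵥ x) x = 0) : False := by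
  obtain ⟨z, hzP, hz2, hz1, hs⟩ := h
  set z' : ↥(Cfsg.spGL 2 F) := ⟨z, C.le_sp hzP⟩ with hz'
  have hz1' : z' ≠ 1 := fun e => hz1 (congrArg Subtype.val e)
  obtain ⟨u, hu⟩ := exists_tvec_star (z := z') (Subtype.ext hz2) hz1' hs
  have ht : (starHom z' : GL I4 F) ∈ image C := (mem_image C).2 ⟨z', hzP, rfl⟩
  have ht1 : (starHom z' : GL I4 F) ≠ 1 := fun e =>
    hz1' (starHom_injective (Subtype.ext (by rw [e, map_one]; rfl)))
  rcases hA _ (image_le C) (irreducible_image C ht ht1 hu) (gen_image C ht ht1 hu) with h1 | ⟨Q, hQ, hQ1⟩ | h3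
  · refine C.ne_top (le_antisymm C.le_sp fun g hg => ?_)
    obtain ⟨k, hk, he⟩ := (mem_image C).1 (show (starHom ⟨g, hg⟩ : GL I4 F) ∈ image C by
      rw [h1]; exact (starHom ⟨g, hg⟩).2)
    rwa [starHom_injective (Subtype.ext he)] at hk
  · exact no_quad_image C hq ht ht1 hu hQ hQ1
  · obtain ⟨K, hK, B, hB, hBK⟩ := h3
    obtain ⟨B0, hB0⟩ := starHom_bijective.2 ⟨B, hB⟩
    refine C.no_subfield K hK ⟨(B0 : GL I4 F), ?_⟩
    rintro _ ⟨g, hg, rfl⟩ i j
    have hmem := hBK _ ((mem_image C).2 ⟨⟨g, C.le_sp hg⟩, hg, rfl⟩)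
    have h := entries_mem_of_star (K := K) (g := B0 * ⟨g, C.le_sp hg⟩ * B0⁻¹) (fun i j => by
      rw [← starHom_val, map_mul, map_mul, map_inv, hB0]
      exact hmem i j) i j
    simpa [Matrix.mul_assoc] using h

end Cfsg.Agent.SpFourRes.Short
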