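import Cfsg.Agent.Lib.SpFourRes.Basic
import Cfsg.Agent.Lib.Transvect.Symp

/-!
The exceptional endomorphism `g ↦ g*` of `Sp₄(F)`, `F` of characteristic two, by minors.

* `star M` : the matrix of the 2 x 2 minors on the pairs `pairB`
* `starHom` : the endomorphism of `spGL 2 F`; `starHom_bijective`
* `lag_of_line`, `line_of_lag` : the swap of point and plane stabilisers
-/

set_option autoImplicit false

namespace Cfsg.Agent.SpFourRes.Star

open Matrix

variable {F : Type*} [Field F]

/-- The index type. -/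
abbrev I4 := Fin 2 ⊕ Fin 2

/-- The first index. -/
abbrev ia : I4 := Sum.inl 0

/-- The second index. -/
abbrev ib : I4 := Sum.inl 1

/-- The partner of the second index. -/
abbrev ic : I4 := Sum.inr 1

/-- The partner of the first index. -/
abbrev id' : I4 := Sum.inr 0

/-- The four pairs of indices which are no hyperbolic pairs. -/
def pairB : I4 → I4 × I4 := Sum.elim ![(ia, ib), (ia, ic)] ![(ic, id'), (ib, id')]

@[simp] theorem pairB_a : pairB ia = (ia, ib) := rfl
@[simp] theorem pairB_b : pairB ib = (ia, ic) := rfl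
@[simp] theorem pairB_c : pairB ic = (ib, id') := rfl
@[simp] theorem pairB_d : pairB id' = (ic, id') := rfl

/-- Case analysis on the index. -/
theorem forall_I4 {p : I4 → Prop} : (∀ i, p i) ↔ p ia ∧ p ib ∧ p ic ∧ p id' := by
  constructor
  · intro h; exact ⟨h _, h _, h _, h _⟩
  · rintro ⟨h1, h2, h3, h4⟩ (i | i) <;> fin_cases i <;> assumption

theorem sum_I4 {M : Type*} [AddCommMonoid M] (f : I4 → M) :
    ∑ i, f i = f ia + f ib + (f id' + f ic) := by
  rw [Fintype.sum_sum_type, Fin.sum_univ_two, Fin.sum_univ_two]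

/-- The Pluecker coordinate of two vectors. -/
def mn (A B : I4 → F) (k l : I4) : F := A k * B l - A l * B k

/-- The column. -/
def colv (M : Matrix I4 I4 F) (j : I4) : I4 → F := fun i => M i j

/-- The matrix of minors. -/
def star (M : Matrix I4 I4 F) : Matrix I4 I4 F := Matrix.of fun p r =>
  mn (colv M (pairB r).1) (colv M (pairB r).2) (pairB p).1 (pairB p).2

theorem star_apply (M : Matrix I4 I4 F) (p r : I4) : star M p r =
    mn (colv M (pairB r).1) (colv M (pairB r).2) (pairB p).1 (pairB p).2 := rfl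

/-- The six-term expansion. -/
def lap (A B C D : I4 → F) : F :=
  mn A B ia ib * mn C D ic id' - mn A B ia ic * mn C D ib id' + mn A B ia id' * mn C D ib ic +
    mn A B ib ic * mn C D ia id' - mn A B ib id' * mn C D ia ic + mn A B ic id' * mn C D ia ib

/-- The matrix form of being symplectic. -/
def Symp (M : Matrix I4 I4 F) : Prop := Mᵀ * Matrix.J (Fin 2) F * M = Matrix.J (Fin 2) F

theorem sf_eq (u v : Vec F) :
    sf u v = -(u ia * v id') - u ib * v ic + u id' * v ia + u ic * v ib := by
  simp [Cfsg.sympForm, Matrix.J, dotProduct, Matrix.mulVec, sum_I4, Matrix.one_apply]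
  ring

theorem sf_mulVec (M : Matrix I4 I4 F) (u v : Vec F) :
    sf (M *ᵥ u) (M *ᵥ v) = u ⬝ᵥ ((Mᵀ * Matrix.J (Fin 2) F * M) *ᵥ v) := by
  rw [Matrix.mul_assoc, ← Matrix.mulVec_mulVec, Matrix.dotProduct_mulVec u Mᵀ, Matrix.vecMul_transpose,
    ← Matrix.mulVec_mulVec]
  rfl

theorem mul_J_mul_apply (M : Matrix I4 I4 F) (r s : I4) :
    (Mᵀ * Matrix.J (Fin 2) F * M) r s = sf (colv M r) (colv M s) := by
  rw [sf_eq]
  simp [colv, Matrix.mul_apply, Matrix.J, sum_I4, Matrix.one_apply]
  ring

theorem mem_spGL {g : GL I4 F} : g ∈ Cfsg.spGL 2 F ↔ Symp g.1 := by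
  rw [Transvect.mem_spGL_iff]
  constructor
  · intro h
    ext r s
    have h' : sf (g.1 *ᵥ Pi.single r 1) (g.1 *ᵥ Pi.single s 1) = sf (Pi.single r 1) (Pi.single s 1) :=
      h (Pi.single r 1) (Pi.single s 1)
    rw [sf_mulVec] at h'
    simpa [Cfsg.sympForm] using h'
  · intro h u v
    show sf (g.1 *ᵥ u) (g.1 *ᵥ v) = sf u v
    rw [sf_mulVec, h]
    rfl

theorem Symp.transpose {M : Matrix I4 I4 F} (h : Symp M) : Symp Mᵀ := by
  have hJ : Matrix.J (Fin 2) F * Matrix.J (Fin 2) F = -1 := Matrix.J_squared _ _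
  have h1 : (-(Matrix.J (Fin 2) F * Mᵀ * Matrix.J (Fin 2) F)) * M = 1 := by
    rw [Matrix.neg_mul, Matrix.mul_assoc (Matrix.J (Fin 2) F * Mᵀ), Matrix.mul_assoc (Matrix.J (Fin 2) F),
      ← Matrix.mul_assoc Mᵀ, h, hJ, neg_neg]
  have h2 := mul_eq_one_comm.mp h1
  show Mᵀᵀ * _ * Mᵀ = _
  rw [Matrix.transpose_transpose]
  rw [Matrix.mul_neg, neg_eq_iff_eq_neg] at h2
  have h4 := congrArg (· * Matrix.J (Fin 2) F) h2
  simp only [Matrix.mul_assoc, hJ, Matrix.mul_neg, Matrix.mul_one, Matrix.neg_mul, Matrix.one_mul,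
    neg_inj] at h4
  rw [Matrix.mul_assoc]
  exact h4

section CharTwo

variable [CharP F 2]

theorem sf_symm (u v : Vec F) : sf u v = sf v u := by
  rw [show sf u v = -sf v u from isSymp.skew u v, CharTwo.neg_eq]

theorem eq_one_of_sq {x : F} (h : x * x = 1) : x = 1 := by
  have : (x - 1) * (x - 1) = 0 := by
    linear_combination h + (1 - x) * CharTwo.two_eq_zero (R := F)
  exact sub_eq_zero.1 (mul_self_eq_zero.1 this)

end CharTwo

theorem mn_add_eq_zero {A B : Vec F} (h : sf A B = 0) : mn A B ia id' + mn A B ib ic = 0 := by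
  rw [sf_eq] at h
  simp only [mn]
  linear_combination -h

/-- The isotropy of the columns of a pair. -/
theorem Symp.cols {M : Matrix I4 I4 F} (h : Symp M) (r : I4) :
    mn (colv M (pairB r).1) (colv M (pairB r).2) ia id' +
      mn (colv M (pairB r).1) (colv M (pairB r).2) ib ic = 0 := by
  apply mn_add_eq_zero
  rw [← mul_J_mul_apply, h]
  revert r
  simp [forall_I4, Matrix.J]

theorem star_one : star (1 : Matrix I4 I4 F) = 1 := by
  ext p r
  revert r; revert p
  simp [forall_I4, star, mn, colv, Matrix.one_apply]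

theorem star_mul {M N : Matrix I4 I4 F} (hM : Symp M) (hN : Symp N) [CharP F 2] :
    star (M * N) = star M * star N := by
  ext p r
  have h1 := hM.transpose.cols p
  have h2 := hN.cols r
  rw [Matrix.mul_apply, sum_I4]
  simp only [star_apply, pairB_a, pairB_b, pairB_c, pairB_d, mn, colv, Matrix.transpose_apply,
    Matrix.mul_apply, sum_I4] at *
  linear_combination
    ((M (pairB p).1 ia * M (pairB p).2 id' - M (pairB p).1 id' * M (pairB p).2 ia) *
      (N ia (pairB r).1 * N id' (pairB r).2 - N id' (pairB r).1 * N ia (pairB r).2)) *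
        CharTwo.two_eq_zero (R := F) +
    (N ib (pairB r).1 * N ic (pairB r).2 - N ic (pairB r).1 * N ib (pairB r).2) * h1 -
    (M (pairB p).1 ia * M (pairB p).2 id' - M (pairB p).1 id' * M (pairB p).2 ia) * h2

theorem det_eq_lap (M : Matrix I4 I4 F) :
    M.det = lap (colv M ia) (colv M ib) (colv M ic) (colv M id') := by
  rw [← Matrix.det_submatrix_equiv_self (finSumFinEquiv (m := 2) (n := 2)).symm M,
    Matrix.det_succ_row_zero]
  have e0 : (finSumFinEquiv (m := 2) (n := 2)).symm 0 = ia := by decide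
  have e1 : (finSumFinEquiv (m := 2) (n := 2)).symm 1 = ib := by decide
  have e2 : (finSumFinEquiv (m := 2) (n := 2)).symm 2 = id' := by decide
  have e3 : (finSumFinEquiv (m := 2) (n := 2)).symm 3 = ic := by decide
  simp [Matrix.det_succ_row_zero, Fin.sum_univ_succ, Fin.succAbove, lap, mn, colv, e0, e1, e2, e3]
  ring

theorem Symp.det_eq_one [CharP F 2] {M : Matrix I4 I4 F} (h : Symp M) : M.det = 1 := by
  have h' := congrArg Matrix.det h
  rw [Matrix.det_mul, Matrix.det_mul, Matrix.det_transpose] at h'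
  have hJ : (Matrix.J (Fin 2) F).det ≠ 0 := by
    intro h0
    have := congrArg Matrix.det (Matrix.J_squared (Fin 2) F)
    rw [Matrix.det_mul, h0, Matrix.det_neg, Matrix.det_one] at this
    norm_num [Fintype.card_sum] at this
  refine eq_one_of_sq (mul_right_cancel₀ hJ ?_)
  linear_combination h'

theorem sf_minor [CharP F 2] {A B C D : Vec F} (hA : mn A B ia id' + mn A B ib ic = 0)
    (hC : mn C D ia id' + mn C D ib ic = 0) :
    sf (fun p => mn A B (pairB p).1 (pairB p).2) (fun p => mn C D (pairB p).1 (pairB p).2) =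
      lap A B C D := by
  rw [sf_eq]
  simp only [pairB_a, pairB_b, pairB_c, pairB_d, lap]
  linear_combination (-(mn A B ia ib * mn C D ic id') + mn A B ib id' * mn C D ia ic +
    mn A B ia id' * mn C D ia id') * CharTwo.two_eq_zero (R := F) - mn A B ia id' * hC - mn C D ia id' * hA

theorem Symp.star [CharP F 2] {M : Matrix I4 I4 F} (h : Symp M) : Symp (star M) := by
  have hd := (det_eq_lap M).symm.trans h.det_eq_one
  show (Star.star M)ᵀ * _ * Star.star M = _
  ext r s
  rw [mul_J_mul_apply]
  show sf (fun p => mn (colv M (pairB r).1) (colv M (pairB r).2) (pairB p).1 (pairB p).2)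
    (fun p => mn (colv M (pairB s).1) (colv M (pairB s).2) (pairB p).1 (pairB p).2) = _
  rw [sf_minor (h.cols r) (h.cols s)]
  have h2 : (-1 : F) = 1 := CharTwo.neg_eq 1
  revert s; revert r
  simp only [forall_I4, pairB_a, pairB_b, pairB_c, pairB_d]
  simp only [lap, mn, Matrix.J, Matrix.fromBlocks_apply₁₁, Matrix.fromBlocks_apply₁₂,
    Matrix.fromBlocks_apply₂₁, Matrix.fromBlocks_apply₂₂, Matrix.zero_apply, Matrix.neg_apply,
    Matrix.one_apply] at hd ⊢
  have h0 : (2 : F) = 0 := CharTwo.two_eq_zero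
  simp at hd ⊢
  refine ⟨⟨?_, ?_, ?_, ?_⟩, ⟨?_, ?_, ?_, ?_⟩, ⟨?_, ?_, ?_, ?_⟩, ⟨?_, ?_, ?_, ?_⟩⟩ <;>
    first
      | ring1
      | linear_combination hd
      | linear_combination -hd
      | linear_combination hd + h0
      | linear_combination -hd - h0

/-! ### Pluecker relations -/

theorem plucker3 (A B : Vec F) (t p q : I4) :
    A t * mn A B p q - A q * mn A B p t + A p * mn A B q t = 0 ∧
      B t * mn A B p q - B q * mn A B p t + B p * mn A B q t = 0 := by
  constructor <;> (simp only [mn]; ring)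

theorem middle_eq_zero {A B : Vec F} (h : mn A B ia id' + mn A B ib ic = 0)
    (h1 : mn A B ia ib * mn A B ic id' = 0) (h2 : mn A B ia ic * mn A B ib id' = 0) :
    mn A B ia id' = 0 ∧ mn A B ib ic = 0 := by
  have h4 : mn A B ia ib * mn A B ic id' - mn A B ia ic * mn A B ib id' +
      mn A B ia id' * mn A B ib ic = 0 := by simp only [mn]; ring
  have : mn A B ia id' * mn A B ia id' = 0 := by
    linear_combination mn A B ia id' * h - h4 + h1 - h2
  have h0 := mul_self_eq_zero.1 this
  exact ⟨h0, by linear_combination h - h0⟩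

/-- If `M*` fixes the first line then `M` fixes the plane of the first two indices. -/
theorem lag_of_line [CharP F 2] {M : Matrix I4 I4 F} (h : Symp M)
    (hb : star M ib ia = 0) (hc : star M ic ia = 0) (hd : star M id' ia = 0) :
    M ic ia = 0 ∧ M id' ia = 0 ∧ M ic ib = 0 ∧ M id' ib = 0 := by
  set A := colv M ia with hA
  set B := colv M ib with hB
  simp only [star_apply, pairB_a, pairB_b, pairB_c, pairB_d, ← hA, ← hB] at hb hc hd
  obtain ⟨h1, h2⟩ := middle_eq_zero (h.cols ia) (show mn A B ia ib * mn A B ic id' = 0 by rw [hd, mul_zero])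
    (show mn A B ia ic * mn A B ib id' = 0 by rw [hb, zero_mul])
  have h1' : mn A B ia id' = 0 := h1
  have h2' : mn A B ib ic = 0 := h2
  have hne : mn A B ia ib ≠ 0 := by
    intro h0
    have := (det_eq_lap M).symm.trans h.det_eq_one
    rw [lap, ← hA, ← hB, h0, hb, hc, hd, h1', h2'] at this
    simp at this
  obtain ⟨e1, e1'⟩ := plucker3 A B ic ia ib
  obtain ⟨e2, e2'⟩ := plucker3 A B id' ia ib
  rw [hb, h2'] at e1 e1'
  rw [h1', hc] at e2 e2'
  simp only [mul_zero, sub_zero, add_zero, mul_eq_zero, hne, or_false] at e1 e1' e2 e2'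
  exact ⟨e1, e2, e1', e2'⟩

/-- If `M*` fixes the plane of the first two indices then `M` fixes the first line. -/
theorem line_of_lag [CharP F 2] {M : Matrix I4 I4 F} (h : Symp M)
    (h1 : star M ic ia = 0) (h2 : star M id' ia = 0) (h3 : star M ic ib = 0)
    (h4 : star M id' ib = 0) : M ib ia = 0 ∧ M ic ia = 0 ∧ M id' ia = 0 := by
  set A := colv M ia with hA
  set B := colv M ib with hB
  set C := colv M ic with hC
  have hdet : (star M).det = mn (colv (star M) ia) (colv (star M) ib) ia ib *
      mn (colv (star M) ic) (colv (star M) id') ic id' := by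
    rw [det_eq_lap]
    simp [lap, mn, colv, h1, h2, h3, h4]
  simp only [star_apply, pairB_a, pairB_b, pairB_c, pairB_d, ← hA, ← hB, ← hC] at h1 h2 h3 h4
  obtain ⟨m1, n1⟩ := middle_eq_zero (A := A) (B := B) (h.cols ia) (by rw [h2, mul_zero])
    (by rw [h1, mul_zero])
  obtain ⟨m2, n2⟩ := middle_eq_zero (A := A) (B := C) (h.cols ib) (by rw [h4, mul_zero])
    (by rw [h3, mul_zero])
  have hne : mn A B ia ib * mn A C ia ic - mn A B ia ic * mn A C ia ib ≠ 0 := by
    intro h0
    have h' : mn (colv (star M) ia) (colv (star M) ib) ia ib = 0 := by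
      exact h0
    rw [h.star.det_eq_one, h', zero_mul] at hdet
    exact one_ne_zero hdet
  have d1 := (plucker3 A B id' ia ib).1
  have d2 := (plucker3 A C id' ia ib).1
  have d3 := (plucker3 A B id' ia ic).1
  have d4 := (plucker3 A C id' ia ic).1
  have c1 := (plucker3 A B ic ia ib).1
  have c2 := (plucker3 A C ic ia ib).1
  rw [m1, h1] at d1; rw [m2, h3] at d2; rw [m1, h2] at d3; rw [m2, h4] at d4
  rw [n1] at c1; rw [n2] at c2
  refine ⟨?_, ?_, ?_⟩
  · exact (mul_eq_zero.1 (show A ib * _ = 0 by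
      linear_combination mn A C ia ib * c1 - mn A B ia ib * c2)).resolve_right hne
  · exact (mul_eq_zero.1 (show A ic * _ = 0 by
      linear_combination mn A C ia ic * c1 - mn A B ia ic * c2)).resolve_right hne
  · exact (mul_eq_zero.1 (show A id' * _ = 0 by
      linear_combination mn A C ia ic * d1 - mn A B ia ic * d2)).resolve_right hne

theorem eq_one_of_star [CharP F 2] {M : Matrix I4 I4 F} (h : Symp M) (h1 : star M = 1) : M = 1 := by
  have e : ∀ p r, star M p r = (1 : Matrix I4 I4 F) p r := fun p r => by rw [h1]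
  simp only [forall_I4, star_apply, pairB_a, pairB_b, pairB_c, pairB_d, Matrix.one_apply] at e
  simp at e
  obtain ⟨⟨aa, ab, ac, ad⟩, ⟨ba, bb, bc, bd⟩, ⟨ca, cb, cc, cd⟩, ⟨da, db, dc, dd⟩⟩ := e
  set A := colv M ia
  set B := colv M ib
  set C := colv M ic
  set D := colv M id'
  obtain ⟨k1, k2⟩ := middle_eq_zero (A := A) (B := B) (h.cols ia) (by rw [da, mul_zero])
    (by rw [ba, zero_mul])
  obtain ⟨l1, l2⟩ := middle_eq_zero (A := A) (B := C) (h.cols ib) (by rw [ab, zero_mul])
    (by rw [cb, mul_zero])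
  obtain ⟨n1, n2⟩ := middle_eq_zero (A := B) (B := D) (h.cols ic) (by rw [ac, zero_mul])
    (by rw [bc, zero_mul])
  obtain ⟨o1, o2⟩ := middle_eq_zero (A := C) (B := D) (h.cols id') (by rw [ad, zero_mul])
    (by rw [bd, zero_mul])
  have p1 := plucker3 A B ic ia ib
  have p2 := plucker3 A B id' ia ib
  rw [aa, ba, k2] at p1; rw [aa, k1, ca] at p2
  have q1 := plucker3 A C ib ia ic
  have q2 := plucker3 A C id' ia ic
  rw [bb, ab, show mn A C ic ib = -mn A C ib ic by simp only [mn]; ring, l2] at q1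
  rw [bb, l1, db] at q2
  have r1 := plucker3 B D ia ib id'
  have r2 := plucker3 B D ic ib id'
  rw [cc, show mn B D ib ia = -mn B D ia ib by simp only [mn]; ring, ac,
    show mn B D id' ia = -mn B D ia id' by simp only [mn]; ring, n1] at r1
  rw [cc, n2, show mn B D id' ic = -mn B D ic id' by simp only [mn]; ring, dc] at r2
  have s1 := plucker3 C D ia ic id'
  have s2 := plucker3 C D ib ic id'
  rw [dd, show mn C D ic ia = -mn C D ia ic by simp only [mn]; ring, bd,
    show mn C D id' ia = -mn C D ia id' by simp only [mn]; ring, o1] at s1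
  rw [dd, show mn C D ic ib = -mn C D ib ic by simp only [mn]; ring, o2,
    show mn C D id' ib = -mn C D ib id' by simp only [mn]; ring, cd] at s2
  simp at p1 p2 q1 q2 r1 r2 s1 s2
  simp only [A, B, C, D, colv] at p1 p2 q1 q2 r1 r2 s1 s2
  have u1 : M ia ia * M ib ib = 1 := by simpa [mn, A, B, colv, p1, q1, r1] using aa
  have u2 : M ia ia * M ic ic = 1 := by simpa [mn, A, C, colv, p1, s1, q1] using bb
  have u3 : M ib ib * M id' id' = 1 := by simpa [mn, B, D, colv, r1, r2, p2, s2] using cc
  have u4 : M ia ia * M id' id' = 1 := by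
    have := congrFun (congrFun h ia) id'
    rw [mul_J_mul_apply, sf_eq] at this
    simp [colv, Matrix.J, p1, p2, q1, s1, s2, CharTwo.neg_eq, CharTwo.sub_eq_add] at this
    exact this
  have u5 : M ib ib * M ic ic = 1 := by
    have := congrFun (congrFun h ib) ic
    rw [mul_J_mul_apply, sf_eq] at this
    simp [colv, Matrix.J, p1, p2, q1, q2, r1, r2, s1, CharTwo.neg_eq, CharTwo.sub_eq_add] at this
    exact this
  have w : M ia ia = 1 := eq_one_of_sq (by
    linear_combination M ia ia * M ic ic * u1 + u2 - M ia ia * M ia ia * u5)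
  rw [w, one_mul] at u1 u2 u4
  ext i j
  revert j; revert i
  simp [forall_I4, Matrix.one_apply, p1, p2, q1, q2, r1, r2, s1, s2, u1, u2, u4, w]

/-! ### The endomorphism -/

variable [CharP F 2]

/-- The endomorphism as a map into matrices. -/
def starMat : ↥(Cfsg.spGL 2 F) →* Matrix I4 I4 F where
  toFun g := star (g : GL I4 F).1
  map_one' := by simp [star_one]
  map_mul' g g' := by
    simp only [Subgroup.coe_mul, Units.val_mul]
    exact star_mul (mem_spGL.1 g.2) (mem_spGL.1 g'.2)

/-- The endomorphism `g ↦ g*`. -/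
def starHom : ↥(Cfsg.spGL 2 F) →* ↥(Cfsg.spGL 2 F) :=
  MonoidHom.codRestrict (starMat (F := F)).toHomUnits (Cfsg.spGL 2 F)
    fun g => mem_spGL.2 (mem_spGL.1 g.2).star

@[simp] theorem starHom_val (g : ↥(Cfsg.spGL 2 F)) :
    ((starHom g : GL I4 F) : Matrix I4 I4 F) = star (g : GL I4 F).1 := rfl

theorem starHom_injective : Function.Injective (starHom (F := F)) := by
  rw [injective_iff_map_eq_one]
  intro g hg
  refine Subtype.ext (Units.ext (eq_one_of_star (mem_spGL.1 g.2) ?_))
  rw [← starHom_val, hg]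
  rfl

theorem starHom_bijective [Finite F] : Function.Bijective (starHom (F := F)) :=
  have := Finite.of_injective (fun g : ↥(Cfsg.spGL 2 F) => (g : GL I4 F).1) fun g h e =>
    Subtype.ext (Units.ext e)
  Finite.injective_iff_bijective.1 starHom_injective

/-- Preimages of the elements with entries in a subfield have entries there. -/
theorem entries_mem_of_star [Finite F] {K : Subfield F} {g : ↥(Cfsg.spGL 2 F)}
    (h : ∀ i j, star (g : GL I4 F).1 i j ∈ K) : ∀ i j, (g : GL I4 F).1 i j ∈ K := by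
  have := Finite.of_injective (fun g : ↥(Cfsg.spGL 2 F) => (g : GL I4 F).1) fun g h e =>
    Subtype.ext (Units.ext e)
  let S := {g : ↥(Cfsg.spGL 2 F) // ∀ i j, (g : GL I4 F).1 i j ∈ K}
  let f : S → S := fun g => ⟨starHom g.1, fun i j => by
    rw [starHom_val, star_apply]
    simp only [mn, colv]
    exact sub_mem (mul_mem (g.2 _ _) (g.2 _ _)) (mul_mem (g.2 _ _) (g.2 _ _))⟩
  have hf : Function.Injective f := fun a b e =>
    Subtype.ext (starHom_injective (congrArg Subtype.val e))
  obtain ⟨⟨g', hg'⟩, he⟩ := (Finite.injective_iff_surjective.1 hf) ⟨starHom g, by simpa using h⟩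
  rw [← starHom_injective (congrArg Subtype.val he)]
  exact hg'

end Cfsg.Agent.SpFourRes.Star
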